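import Groth.Agent.AVMukai.Top

/-!
The skyscraper property of a class on a product of abelian varieties which is additive in the first variable and
separates points of the second.
-/

set_option autoImplicit false
set_option backward.isDefEq.respectTransparency false
set_option backward.isDefEq.respectTransparency.types false
set_option linter.style.haveILetI false
set_option linter.unusedSectionVars false
set_option maxHeartbeats 2000000

universe u

open CategoryTheory MonoidalCategory CartesianMonoidalCategory MonObj GrpObj AlgebraicGeometry TopologicalSpace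
open Groth.Agent.W7Cube (pull pull_pull pull_cls)
open Groth.Agent.AbPrim (val pull_val)
open Groth.Agent.W7See (LT Cyc)
open Groth.Agent.W7Cech (ModelNN)
open Groth.Agent.AVMukai (resPt resHom org point_eq_org isClosed_org exists_dim fiberH_subsingleton J_le_of_translate
  isCoh_inv nonempty_sections_residue sections_zero_low bijective_res map_app_res subsingleton_hh_high sections_zero_all)

noncomputable section

namespace Groth.Agent.AVDual

attribute [local instance] W7Cube.law

variable {k : Type u} [Field k]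

/-- a class on a product, additive in the first variable, separating the points of the second -/
structure Weak (A At : Over (Spec (CommRingCat.of k))) [GrpObj A] [GrpObj At] where
  /-- the class -/
  x : PicLoc.PicSet (A ⊗ At).left
  mul_left : ∀ {V : Over (Spec (CommRingCat.of k))} (f g : V ⟶ A) (t : V ⟶ At), val x (f * g) t = val x f t * val x g t
  one_right : ∀ {V : Over (Spec (CommRingCat.of k))} (f : V ⟶ A), val x f 1 = 1
  eq_one : ∀ {T : Over (Spec (CommRingCat.of k))} (g : T ⟶ At), pull (A ◁ g).left x = 1 → g = 1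

namespace Weak

variable {A At : Over (Spec (CommRingCat.of k))} [GrpObj A] [GrpObj At] (W : Weak A At)

theorem one_left {V : Over (Spec (CommRingCat.of k))} (t : V ⟶ At) : val W.x 1 t = 1 := by
  have h := W.mul_left (1 : V ⟶ A) 1 t
  rw [_root_.one_mul] at h
  exact right_eq_mul.1 h

theorem val_fst_snd : val W.x (fst A At) (snd A At) = W.x := by
  change pull (lift (fst A At) (snd A At)).left W.x = W.x
  rw [lift_fst_snd]
  exact PicGrp.pullHom_id_apply _ _

theorem pull_one (T : Over (Spec (CommRingCat.of k))) : pull (A ◁ (1 : T ⟶ At)).left W.x = 1 := by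
  have h := W.one_right (fst A T)
  rw [val] at h
  rwa [show A ◁ (1 : T ⟶ At) = lift (fst A T) (1 : A ⊗ T ⟶ At) by
    apply CartesianMonoidalCategory.hom_ext
    · rw [whiskerLeft_fst, lift_fst]
    · rw [whiskerLeft_snd, lift_snd, MonObj.comp_one]]

end Weak

variable {A At : Over (Spec (CommRingCat.of k))} [GrpObj A] [IsProper A.hom] [Smooth A.hom]
  [GeometricallyConnected A.hom] [GeometricallyIntegral A.hom] [GrpObj At] [IsProper At.hom] [Smooth At.hom]
  [GeometricallyConnected At.hom] [IsLocallyNoetherian At.left]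
  (W : Weak A At)
  {P : (A ⊗ At).left.Modules} (hP : PicF.IsInvertible P) (hQ : W.x = PicGrp.cls P hP)

include hQ in
/-- fibre cohomology of the bundle vanishes off the origin of the dual -/
theorem hvan_snd (y : At.left) (hy : y ∉ ({org At} : Set At.left)) (p : ℕ) :
    Subsingleton (CohIII.fiberH (Limits.pullback.snd A.hom At.hom) P y p) := by
  refine fiberH_subsingleton hP ?_ y (fun h => hy ?_) p
  · intro V f g t
    rw [← hQ]
    exact W.mul_left f g t
  · rw [← hQ] at h
    obtain ⟨r, hr⟩ : ∃ r, At.left.fromSpecResidueField y r = y := ⟨IsLocalRing.closedPoint _, Scheme.fromSpecResidueField_apply y _⟩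
    exact hr.symm.trans ((congrArg (fun m : resPt At y ⟶ At => m.left r) (W.eq_one _ h)).trans
      (point_eq_org (G := At) (V := resPt At y) r))

include hQ in
/-- where the bundle is locally trivial over the base the point is trivial -/
theorem eq_one_of_LT {T : Over (Spec (CommRingCat.of k))} (t : T ⟶ At)
    (h : LT (Limits.pullback.snd A.hom At.hom) P t.left) : t = 1 := by
  obtain ⟨M, hM, ⟨i⟩⟩ := (W7See.exists_iff_lt _ P hP t.left).1 h
  have hMi := ZeroSch.isInvertible_of_rankOne hM
  have hg := FMTool.isPullback_whiskerLeft (A := A) t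
  let g : (A ⊗ T).left ⟶ Limits.pullback (Limits.pullback.snd A.hom At.hom) t.left := hg.isoPullback.hom
  have e : pull (A ◁ t).left W.x = pull (snd A T).left (PicGrp.cls M hMi) := by
    have e0 : PicGrp.cls _ (PicLoc.isInvertible_pullback (Limits.pullback.fst _ t.left) hP) =
        PicGrp.cls _ (PicLoc.isInvertible_pullback (Limits.pullback.snd (Limits.pullback.snd A.hom At.hom) t.left) hMi) :=
      (PicGrp.cls_eq_cls_iff _ _).2 ⟨i⟩
    rw [← pull_cls _ P hP, ← pull_cls _ M hMi] at e0
    have e1 := congrArg (pull g) e0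
    rw [pull_pull, pull_pull, show g ≫ Limits.pullback.fst _ t.left = (A ◁ t).left from hg.isoPullback_hom_fst,
      show g ≫ Limits.pullback.snd _ t.left = (snd A T).left from hg.isoPullback_hom_snd, ← hQ] at e1
    exact e1
  have h1 : PicGrp.cls M hMi = 1 := by
    have e2 := congrArg (pull (lift (1 : T ⟶ A) (𝟙 T)).left) e
    rw [pull_pull, pull_pull, ← Over.comp_left, ← Over.comp_left, lift_whiskerLeft, lift_snd, Category.id_comp,
      Over.id_left] at e2
    exact ((PicGrp.pullHom_id_apply _ _).symm.trans e2.symm).trans (W.one_left _)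
  refine W.eq_one t ?_
  rw [e, h1, map_one]

include hQ in
/-- the bundle is trivial at the origin -/
theorem nonempty_triv_one (T : Over (Spec (CommRingCat.of k))) :
    Nonempty ((Scheme.Modules.pullback (Limits.pullback.fst (Limits.pullback.snd A.hom At.hom)
      (1 : T ⟶ At).left)).obj P ≅ Coh.structureModule _) := by
  have hg := FMTool.isPullback_whiskerLeft (A := A) (1 : T ⟶ At)
  let g := hg.isoPullback
  have h1 : pull (A ◁ (1 : T ⟶ At)).left W.x = 1 := W.pull_one T
  have h2 : pull (Limits.pullback.fst (Limits.pullback.snd A.hom At.hom) (1 : T ⟶ At).left) (PicGrp.cls P hP) = 1 := by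
    have e : Limits.pullback.fst (Limits.pullback.snd A.hom At.hom) (1 : T ⟶ At).left = g.inv ≫ (A ◁ (1 : T ⟶ At)).left :=
      (Iso.eq_inv_comp g).2 hg.isoPullback_hom_fst
    rw [e, ← pull_pull, ← hQ]
    exact (congrArg (pull g.inv) h1).trans (map_one _)
  rw [pull_cls] at h2
  exact (PicGrp.cls_eq_one_iff _).1 h2

include hQ in
/-- local triviality at the origin -/
theorem lt_one (T : Over (Spec (CommRingCat.of k))) :
    LT (Limits.pullback.snd A.hom At.hom) P (1 : T ⟶ At).left :=
  (W7See.exists_iff_lt _ P hP _).2 ⟨Coh.structureModule T.left, CurveRR.isFinLocFreeOfRank_one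
    TMul.isInvertible_structureModule, ⟨(nonempty_triv_one W hP hQ T).some ≪≫ (PicLoc.pullbackStructureIso _).symm⟩⟩

variable [LocallyOfFiniteType (Limits.pullback.snd A.hom At.hom)]

include hQ in
/-- the annihilator of the generator at the origin is the maximal ideal -/
theorem exists_cyc_org {U : At.left.Opens} (hU : IsAffineOpen U) (hoU : org At ∈ U) :
    ∃ C : Cyc (f := Limits.pullback.snd A.hom At.hom) P U hU, ∃ a : Γ(At.left, U),
      a ∉ (hU.primeIdealOf ⟨org At, hoU⟩).asIdeal ∧ (∀ v : C.Q, ∃ c : Γ(At.left, U), a • v = c • C.q) ∧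
        (∀ j : Γ(At.left, U), j • C.q = 0 → j ∈ (hU.primeIdealOf ⟨org At, hoU⟩).asIdeal) ∧
        ∀ j ∈ (hU.primeIdealOf ⟨org At, hoU⟩).asIdeal, ∀ v : C.Q, ∃ n : ℕ, a ^ n • j • v = 0 := by
  let f := Limits.pullback.snd A.hom At.hom
  haveI : Subsingleton (Spec (CommRingCat.of k)) := inferInstanceAs (Subsingleton (PrimeSpectrum k))
  -- the translate by inversion in the group variable
  let τ : A ⊗ At ⟶ A ⊗ At := (𝟙 A)⁻¹ ▷ At
  haveI : IsIso ((𝟙 A)⁻¹ : A ⟶ A) := ⟨(𝟙 A)⁻¹, by rw [comp_inv, Category.comp_id, _root_.inv_inv], by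
    rw [comp_inv, Category.comp_id, _root_.inv_inv]⟩
  haveI : IsIso τ.left := inferInstanceAs (IsIso ((Over.forget _).map ((𝟙 A)⁻¹ ▷ At)))
  have hτ : τ.left ≫ f = f := congrArg (fun m => m.left) (whiskerRight_snd (𝟙 A)⁻¹ At)
  let P'' := (Scheme.Modules.pullback τ.left).obj P
  have hP'' : PicF.IsInvertible P'' := PicLoc.isInvertible_pullback _ hP
  obtain ⟨ε⟩ : Nonempty (CohB1.tensorMod P P'' ≅ Coh.structureModule (A ⊗ At).left) := by
    refine (PicGrp.cls_eq_one_iff (TMul.isInvertible_tensorMod hP hP'')).1 ?_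
    change PicGrp.cls P hP * PicGrp.cls P'' hP'' = 1
    rw [← pull_cls τ.left P hP, ← hQ]
    conv_lhs => arg 1; rw [← W.val_fst_snd]
    have e : τ = lift ((fst A At)⁻¹) (snd A At) := CartesianMonoidalCategory.hom_ext _ _
      (by simp only [τ, whiskerRight_fst, lift_fst, comp_inv, Category.comp_id]) (by simp [τ])
    rw [e]
    change val W.x (fst A At) (snd A At) * val W.x (fst A At)⁻¹ (snd A At) = 1
    rw [← W.mul_left, mul_inv_cancel, W.one_left]
  -- rank one at the origin
  have hb := W7See.bijective_fiber f (org At)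
  have htriv : Nonempty (CohIII.fiberMod f P (org At) ≅ Coh.structureModule (f.fiber (org At))) := by
    let o := At.left.fromSpecResidueField (org At)
    have hres : resHom At (org At) = 1 := Over.OverMorphism.ext (by
      rw [Hom.one_def, Over.comp_left]
      have hw : (o ≫ At.hom) ≫ η[At].left = o := by
        rw [Category.assoc]
        exact W7Cube.fromSpecResidueField_section η[At].left At.hom (Over.w η[At]) (IsLocalRing.closedPoint k)
      exact hw.symm)
    have h := nonempty_triv_one W hP hQ (resPt At (org At))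
    rw [← hres] at h
    exact h
  obtain ⟨C, hC⟩ := W7See.exists_cyc hP hU (org At) hoU (W7See.fiberRank_eq_one f P _ hb htriv.some).le
  have htriv' : Nonempty (CohIII.fiberMod f P'' (org At) ≅ Coh.structureModule (f.fiber (org At))) := by
    obtain ⟨b⟩ := TMul.nonempty_pullTensorIso (f.fiberι (org At)) P P''
    exact ⟨(TMul.leftUnitIso _).symm ≪≫ PicGrp.tensorModIso htriv.some.symm (Iso.refl _) ≪≫
      (b ≪≫ (Scheme.Modules.pullback _).mapIso ε ≪≫ PicLoc.pullbackStructureIso _)⟩
  obtain ⟨C', hC'⟩ := W7See.exists_cyc hP'' hU (org At) hoU (W7See.fiberRank_eq_one f P'' _ hb htriv'.some).le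
  let a := C.a * C'.a
  have haU : org At ∈ At.left.basicOpen a := by rw [Scheme.basicOpen_mul]; exact ⟨hC, hC'⟩
  let D := At.left.basicOpen a
  have hD : IsAffineOpen D := hU.basicOpen a
  have hDU : D ≤ U := At.left.basicOpen_le a
  let r := QC.resO At.left hDU
  -- the pairing of the two presentations
  have hJ' : C'.J ≤ (C.J.map r).comap r := J_le_of_translate hP τ.left hτ C C'
  -- the piece is the origin
  have hle : (hU.primeIdealOf ⟨org At, hoU⟩).asIdeal ≤ (C.J.map r).comap r := fun j hj => by
    have hI : (C.J ⊔ C'.J).map r = C.J.map r :=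
      le_antisymm (Ideal.map_le_iff_le_comap.2 (sup_le Ideal.le_comap_map hJ')) (Ideal.map_mono le_sup_left)
    rw [← hI]
    let I := (C.J ⊔ C'.J).map r
    let u := W7See.piece hD I
    let T : Over (Spec (CommRingCat.of k)) := Over.mk (u ≫ At.hom)
    have h1 := eq_one_of_LT W hP hQ (Over.homMk u rfl : T ⟶ At) (W7See.lt_piece hP hP'' ε C C')
    have hu : u = (u ≫ At.hom) ≫ η[At].left := by
      have := congrArg (fun m : T ⟶ At => m.left) h1
      rw [Hom.one_def, Over.comp_left] at this
      exact this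
    have hj0 : (η[At].left.app U).hom j = 0 := by
      have hη : ∀ x : Spec (CommRingCat.of k), η[At].left x = org At := fun x =>
        congrArg η[At].left (Subsingleton.elim (α := Spec (CommRingCat.of k)) x _)
      have hb : (Spec (CommRingCat.of k)).basicOpen ((η[At].left.app U).hom j) = ⊥ := by
        refine (Scheme.preimage_basicOpen η[At].left j).symm.trans ?_
        refine Opens.ext (Set.eq_empty_of_forall_notMem fun x hx => ?_)
        have hx' : η[At].left x ∈ At.left.basicOpen j := hx
        rw [hη x, WeakAssLib.mem_primeIdealOf hU hoU] at hx'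
        exact hx' hj
      haveI : AlgebraicGeometry.IsReduced (𝟙_ (Over (Spec (CommRingCat.of k)))).left :=
        inferInstanceAs (AlgebraicGeometry.IsReduced (Spec (CommRingCat.of k)))
      exact eq_zero_of_basicOpen_eq_bot _ hb
    have hVU : (⊤ : (Spec (CommRingCat.of (Γ(At.left, D) ⧸ I))).Opens) ≤ u ⁻¹ᵁ U := W7See.piece_le hD _ hDU
    have h0 : (u.appLE U ⊤ hVU).hom j = 0 := by
      have key : ∀ (w : _ ⟶ At.left) (hw : w = (u ≫ At.hom) ≫ η[At].left) (hwU : ⊤ ≤ w ⁻¹ᵁ U),
          (w.appLE U ⊤ hwU).hom j = 0 := by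
        rintro w rfl hwU
        rw [Scheme.Hom.comp_appLE, CommRingCat.comp_apply]
        exact (congrArg _ hj0).trans (map_zero _)
      exact key u hu hVU
    rw [W7See.piece_appLE hD hDU] at h0
    refine Ideal.mem_comap.2 ?_
    exact Ideal.Quotient.eq_zero_iff_mem.1 ((map_eq_zero_iff _
      (ConcreteCategory.bijective_of_isIso (Scheme.ΓSpecIso (CommRingCat.of (Γ(At.left, D) ⧸ I))).inv).1).1 h0)
  refine ⟨C, a, (WeakAssLib.mem_primeIdealOf hU hoU a).1 haU, fun v => ?_, fun j hj => ?_, fun j hj v => ?_⟩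
  · obtain ⟨c, hc⟩ := C.hq v
    exact ⟨C'.a * c, by rw [show a = C'.a * C.a from _root_.mul_comm _ _, mul_smul, hc, mul_smul]⟩
  · have h0 := W7See.appLE_eq_zero_of_LT hP C.m C.Q C.η (a := C.a)
      (j := j) (fun v => by simpa using C.kills (j := j) hj (b := 1) v) (lt_one W hP hQ (𝟙_ _))
      (V := ⊤) (fun x _ => show (1 : 𝟙_ _ ⟶ At).left x ∈ U from (point_eq_org (G := At) x).symm ▸ hoU)
      (fun x _ => (point_eq_org (G := At) x).symm ▸ hC)
    by_contra hne
    have hu := (At.left.mem_basicOpen j (org At) hoU).1 ((WeakAssLib.mem_primeIdealOf hU hoU j).2 hne)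
    have hmem : org At ∈ At.left.basicOpen j := (WeakAssLib.mem_primeIdealOf hU hoU j).2 hne
    have hx : IsLocalRing.closedPoint k ∈ (1 : 𝟙_ (Over (Spec (CommRingCat.of k))) ⟶ At).left ⁻¹ᵁ At.left.basicOpen j := by
      rw [← point_eq_org (G := At) (V := 𝟙_ _) (IsLocalRing.closedPoint k)] at hmem
      exact hmem
    have hb := Scheme.basicOpen_appLE (1 : 𝟙_ (Over (Spec (CommRingCat.of k))) ⟶ At).left ⊤ U
      (fun x _ => show (1 : 𝟙_ _ ⟶ At).left x ∈ U from (point_eq_org (G := At) x).symm ▸ hoU) j
    rw [h0, Scheme.basicOpen_zero] at hb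
    have hm : IsLocalRing.closedPoint k ∈ (⊤ : (Spec (CommRingCat.of k)).Opens) ⊓
        (1 : 𝟙_ (Over (Spec (CommRingCat.of k))) ⟶ At).left ⁻¹ᵁ At.left.basicOpen j := ⟨trivial, hx⟩
    exact (le_of_eq hb.symm hm : IsLocalRing.closedPoint k ∈ (⊥ : (Spec (CommRingCat.of k)).Opens)).elim
  · letI : Algebra Γ(At.left, U) Γ(At.left, D) := r.toAlgebra
    haveI : IsLocalization.Away a Γ(At.left, D) := hU.isLocalization_basicOpen a
    obtain ⟨_, ⟨n, rfl⟩, hn⟩ := (IsLocalization.algebraMap_mem_map_algebraMap_iff (Submonoid.powers a) _ C.J j).1 (hle hj)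
    obtain ⟨m, hm⟩ := C.kills hn (b := C'.a) v
    exact ⟨m + n, by rw [pow_add, mul_smul, ← mul_smul _ j v]; exact hm⟩


variable [GeometricallyIntegral At.hom] [IsLocallyNoetherian A.left] [HasInjectiveResolutions (A ⊗ At).left.Modules]

include hQ in
/-- the residue field at the origin -/
theorem exists_top_residue (g' : ℕ) (hg' : topologicalKrullDim At.left = g') {V : At.left.Opens} (hV : IsAffineOpen V)
    (hoV : org At ∈ V) :
    Nonempty (Γ((Coh.Rpush (Limits.pullback.snd A.hom At.hom) g').obj P, V) ≃ₗ[Γ(At.left, V)]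
      IsLocalRing.ResidueField (Localization.AtPrime (hV.primeIdealOf ⟨org At, hoV⟩).asIdeal)) := by
  obtain ⟨C, a, ha, hcyc, hJ, hkill⟩ := exists_cyc_org W hP hQ hV hoV
  obtain ⟨n, hn, hreg⟩ := exists_dim At
  obtain rfl : n = g' := by exact_mod_cast hn.symm.trans hg'
  exact nonempty_sections_residue (Limits.pullback.snd A.hom At.hom) (isCoh_inv hP)
    (W7Hull.isFlatOver_of_isInvertible _ hP) {org At} (fun z hz => hz ▸ isClosed_org At) (hvan_snd W hP hQ) n
    (fun z hz => hreg z (hz ▸ isClosed_org At)) hV hoV rfl (fun _ _ h => h) C.m C.Q C.η a ha C.q hcyc hJ hkill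

include hQ in
/-- below the dimension of the dual nothing survives -/
theorem sections_zero_below (g' : ℕ) (hg' : topologicalKrullDim At.left = g') (n : ℕ) (hn : n < g')
    (O : At.left.Opens) (s : Γ((Coh.Rpush (Limits.pullback.snd A.hom At.hom) n).obj P, O)) : s = 0 := by
  obtain ⟨m, hm, hreg⟩ := exists_dim At
  obtain rfl : m = g' := by exact_mod_cast hm.symm.trans hg'
  exact sections_zero_low (Limits.pullback.snd A.hom At.hom) (isCoh_inv hP) (W7Hull.isFlatOver_of_isInvertible _ hP)
    {org At} (Set.finite_singleton _) (fun z hz => hz ▸ isClosed_org At) (hvan_snd W hP hQ)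
    (W7Hull.isFP_of_isInvertible hP) m (fun z hz => hreg z (hz ▸ isClosed_org At)) n hn O s

include hQ in
/-- above the dimension of the abelian variety nothing survives -/
theorem sections_zero_above (g : ℕ) (hg : topologicalKrullDim A.left = g) (n : ℕ) (hn : g < n)
    (O : At.left.Opens) (s : Γ((Coh.Rpush (Limits.pullback.snd A.hom At.hom) n).obj P, O)) : s = 0 := by
  haveI : CompactSpace A.left := QuasiCompact.compactSpace_of_compactSpace A.hom
  haveI : QuasiSeparatedSpace A.left := quasiSeparatedSpace_of_quasiSeparated A.hom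
  refine sections_zero_all (Limits.pullback.snd A.hom At.hom) (isCoh_inv hP)
    (W7Hull.isFlatOver_of_isInvertible _ hP) n (fun y => ?_) O s
  by_cases hy : y = org At
  · subst hy
    exact (AgVanish.fiberH_iff (A := A) (W := At) P (TMul.isQCoh_of_isInvertible hP) η[At] n).2
      (subsingleton_hh_high g hg _ n hn)
  · exact hvan_snd W hP hQ y hy n

include hQ in
/-- global sections are sections near the origin -/
theorem bijective_res_org (q : ℕ) {V : At.left.Opens} (hoV : org At ∈ V) :
    Function.Bijective (QC.res ((Coh.Rpush (Limits.pullback.snd A.hom At.hom) q).obj P) (le_top : V ≤ ⊤)) :=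
  bijective_res (Limits.pullback.snd A.hom At.hom) (isCoh_inv hP) (W7Hull.isFlatOver_of_isInvertible _ hP)
    {org At} (Set.finite_singleton _) (fun z hz => hz ▸ isClosed_org At) (hvan_snd W hP hQ) q
    (Set.singleton_subset_iff.2 hoV)

include hQ in
/-- global sections compute the cohomology linearly -/
theorem exists_top_linear (q : ℕ) :
    letI : (Limits.pullback A.hom At.hom).Over (Spec (CommRingCat.of k)) := ⟨Limits.pullback.fst A.hom At.hom ≫ A.hom⟩
    ∃ e : Γ((Coh.Rpush (Limits.pullback.snd A.hom At.hom) q).obj P, ⊤) ≃+ Coh.HH (Limits.pullback A.hom At.hom) P q,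
      ∀ (a : k) (s : Γ((Coh.Rpush (Limits.pullback.snd A.hom At.hom) q).obj P, ⊤)),
        e ((show Γ(At.left, ⊤) from Coh.toGlobal At.hom a) • s) = a • e s := by
  letI : (Limits.pullback A.hom At.hom).Over (Spec (CommRingCat.of k)) := ⟨Limits.pullback.fst A.hom At.hom ≫ A.hom⟩
  exact AVMukai.exists_rpush_top_linear k (Limits.pullback.snd A.hom At.hom) P q (fun r n =>
    haveI := RPushQC.isFlasque_toAb (AVMukai.isFlasque_rpush (Limits.pullback.snd A.hom At.hom) (isCoh_inv hP)
      (W7Hull.isFlatOver_of_isInvertible _ hP) {org At} (Set.finite_singleton _) (fun z hz => hz ▸ isClosed_org At)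
      (hvan_snd W hP hQ) r)
    SiteCoh.flasque_acyclic (Coh.toAb _) (⊤ : At.left.Opens) n) At.hom Limits.pullback.condition.symm

include hQ in
/-- cohomology vanishes where the direct image does -/
theorem subsingleton_hh (q : ℕ)
    (h : ∀ s : Γ((Coh.Rpush (Limits.pullback.snd A.hom At.hom) q).obj P, ⊤), s = 0) :
    Subsingleton (Coh.HH (A ⊗ At).left P q) := by
  obtain ⟨e, -⟩ := exists_top_linear W hP hQ q
  haveI : Subsingleton Γ((Coh.Rpush (Limits.pullback.snd A.hom At.hom) q).obj P, ⊤) := subsingleton_of_forall_eq 0 h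
  exact e.symm.injective.subsingleton

include hQ in
/-- constants generate the top sections -/
theorem exists_generator (g : ℕ) (hg : topologicalKrullDim At.left = g) :
    ∃ s : Γ((Coh.Rpush (Limits.pullback.snd A.hom At.hom) g).obj P, ⊤), s ≠ 0 ∧
      ∀ t, ∃ a : k, (show Γ(At.left, ⊤) from Coh.toGlobal At.hom a) • s = t := by
  obtain ⟨V, hV, hoV, -⟩ := exists_isAffineOpen_mem_and_subset (X := At.left) (x := org At) (U := ⊤) trivial
  haveI := hV.primeIdealOf_isMaximal_of_isClosed ⟨org At, hoV⟩ (isClosed_org At)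
  obtain ⟨E⟩ := exists_top_residue W hP hQ g hg hV hoV
  have hb := bijective_res_org W hP hQ g hoV
  obtain ⟨s, hs⟩ := hb.2 (E.symm 1)
  refine ⟨s, fun h => one_ne_zero (α := IsLocalRing.ResidueField _) (E.symm.injective (hs.symm.trans
    (by rw [h, map_zero, map_zero]))), fun t => ?_⟩
  obtain ⟨c, hc⟩ := AVMukai.smul_residue_surjective _ 1 one_ne_zero (E (QC.res _ le_top t))
  let a : k := (Scheme.ΓSpecIso (CommRingCat.of k)).hom.hom
    ((Spec (CommRingCat.of k)).presheaf.map (homOfLE (le_of_eq (by
      refine Opens.ext (Set.eq_univ_of_forall fun x => ?_).symm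
      rw [show x = IsLocalRing.closedPoint k from Subsingleton.elim (α := PrimeSpectrum k) _ _]
      exact hoV : (⊤ : (Spec (CommRingCat.of k)).Opens) = η[At].left ⁻¹ᵁ V))).op ((η[At].left.app V).hom c))
  refine ⟨a, hb.1 ?_⟩
  rw [QC.res_smul, hs]
  refine E.injective ?_
  rw [map_smul, E.apply_symm_apply, ← hc, ← sub_eq_zero, ← sub_smul]
  refine AVMukai.smul_residue_eq_zero _ ?_ _
  by_contra hne
  have h1 : η[At].left (IsLocalRing.closedPoint k) ∈ At.left.basicOpen
      (QC.resO At.left le_top (Coh.toGlobal At.hom a) - c) := (WeakAssLib.mem_primeIdealOf hV hoV _).2 hne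
  have h3 : (η[At].left.app V).hom (QC.resO At.left le_top (Coh.toGlobal At.hom a) - c) = 0 := by
    rw [map_sub, sub_eq_zero]
    have hVtop : η[At].left ⁻¹ᵁ V = ⊤ := by
      refine Opens.ext (Set.eq_univ_of_forall fun x => ?_)
      rw [show x = IsLocalRing.closedPoint k from Subsingleton.elim (α := PrimeSpectrum k) _ _]
      exact hoV
    haveI : IsIso (homOfLE (le_of_eq hVtop.symm)) :=
      ⟨homOfLE (le_of_eq hVtop), Subsingleton.elim _ _, Subsingleton.elim _ _⟩
    refine (ConcreteCategory.bijective_of_isIso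
      ((Spec (CommRingCat.of k)).presheaf.map (homOfLE (le_of_eq hVtop.symm)).op)).1 ?_
    have e1 : ((Spec (CommRingCat.of k)).presheaf.map (homOfLE (le_of_eq hVtop.symm)).op).hom
        ((η[At].left.app V).hom (QC.resO At.left le_top (Coh.toGlobal At.hom a))) =
          (η[At].left ≫ At.hom).appTop.hom ((Scheme.ΓSpecIso (CommRingCat.of k)).inv.hom a) := by
      refine (map_app_res η[At].left _ (Coh.toGlobal At.hom a)).trans ?_
      rfl
    refine e1.trans ?_
    have e2 : (η[At].left ≫ At.hom).appTop = 𝟙 _ := by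
      rw [Over.w η[At]]
      exact Scheme.Hom.id_appTop
    rw [e2]
    exact congr(($((Scheme.ΓSpecIso (CommRingCat.of k)).hom_inv_id)).hom _)
  have h2 : IsLocalRing.closedPoint k ∈ η[At].left ⁻¹ᵁ At.left.basicOpen
      (QC.resO At.left le_top (Coh.toGlobal At.hom a) - c) := h1
  rw [Scheme.preimage_basicOpen, h3, Scheme.basicOpen_zero] at h2
  exact h2.elim

include hQ in
/-- **the cohomology in top degree is a line** -/
theorem finrank_top (g : ℕ) (hg : topologicalKrullDim At.left = g) :
    letI : (Limits.pullback A.hom At.hom).Over (Spec (CommRingCat.of k)) := ⟨Limits.pullback.fst A.hom At.hom ≫ A.hom⟩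
    Module.finrank k (Coh.HH (Limits.pullback A.hom At.hom) P g) = 1 := by
  letI : (Limits.pullback A.hom At.hom).Over (Spec (CommRingCat.of k)) := ⟨Limits.pullback.fst A.hom At.hom ≫ A.hom⟩
  obtain ⟨e, he⟩ := exists_top_linear W hP hQ g
  obtain ⟨s, hs, hgen⟩ := exists_generator W hP hQ g hg
  refine finrank_eq_one (e s) (fun h => hs (e.injective (h.trans (map_zero e).symm))) fun w => ?_
  obtain ⟨a, ha⟩ := hgen (e.symm w)
  exact ⟨a, by rw [← he, ha, e.apply_symm_apply]⟩

end Groth.Agent.AVDual
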