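import Groth.Agent.AVDual.Descend
import Groth.Agent.AVDual.Weak
import Groth.Agent.AgVanish.Invariant
import Groth.Agent.S9683
import Groth.Agent.AbPrim.Geometric

/-!
The descended class is a weak Poincaré class; existence over algebraically closed fields.
-/

set_option autoImplicit false
set_option backward.isDefEq.respectTransparency false
set_option backward.isDefEq.respectTransparency.types false
set_option linter.style.haveILetI false
set_option linter.unusedSectionVars false
set_option maxHeartbeats 1000000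

universe u

open CategoryTheory CategoryTheory.Limits MonoidalCategory CartesianMonoidalCategory MonObj GrpObj AlgebraicGeometry
open Groth.Agent.W7Cube (pull pull_pull pull_cls pc pull_pc pc_id pc_one)
open Groth.Agent.AbPrim (val)

attribute [local instance] Groth.Agent.W7Cube.law

noncomputable section

namespace Groth.Agent.AVDual

variable {k : Type u} [Field k] {A B : Over (Spec (CommRingCat.of k))} [GrpObj A] [IsProper A.hom]
  [GeometricallyIntegral A.hom] [IsCommMonObj A] [GrpObj B] [IsProper B.hom] [GeometricallyIntegral B.hom]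
  [IsCommMonObj B]

theorem exists_weak (f : A ⟶ B) [IsMonHom f] [IsFinite f.left] [Flat f.left] (hf : Surjective f.left)
    {K : Over (Spec (CommRingCat.of k))} [GrpObj K] {i : K ⟶ A} [IsMonHom i] (hN : AlgGrp.IsKernel i f)
    {L : A.left.Modules} (hL : PicF.IsInvertible L) (hKL : ThetaGrp.IsKL A L i) :
    ∃ W : Weak A B, ∀ {V : Over (Spec (CommRingCat.of k))} (a x : V ⟶ A),
      val W.x a (x ≫ f) = pc (PicGrp.cls L hL) (a * x) * (pc (PicGrp.cls L hL) a * pc (PicGrp.cls L hL) x)⁻¹ := by
  obtain ⟨P, hP, hP0⟩ : ∃ P : PicLoc.PicSet (A ⊗ B).left,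
      (∀ (V : Over (Spec (CommRingCat.of k))) (a x : V ⟶ A), pc P (lift a (x ≫ f)) =
        pc (PicGrp.cls L hL) (a * x) * (pc (PicGrp.cls L hL) a * pc (PicGrp.cls L hL) x)⁻¹) ∧
      ∀ {V : Over (Spec (CommRingCat.of k))} (t : V ⟶ B), val P (1 : V ⟶ A) t = 1 := by
    obtain ⟨P₀, hP₀⟩ := exists_descended f hf hN hL hKL
    let r := pull (lift (1 : B ⟶ A) (𝟙 B)).left P₀
    have hv : ∀ {V : Over (Spec (CommRingCat.of k))} (a : V ⟶ A) (t : V ⟶ B),
        val (P₀ * (pull (snd A B).left r)⁻¹) a t = val P₀ a t * (val P₀ (1 : V ⟶ A) t)⁻¹ := fun {V} a t => by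
      simp only [val, map_mul, map_inv, r, pull_pull, ← Over.comp_left]
      congr 3
      rw [lift_snd_assoc, comp_lift, MonObj.comp_one, Category.comp_id]
    have h0 : ∀ {V : Over (Spec (CommRingCat.of k))} (x : V ⟶ A), val P₀ (1 : V ⟶ A) (x ≫ f) = 1 := fun {V} x => by
      refine (hP₀ V 1 x).trans ?_
      rw [_root_.one_mul, pc_one, _root_.one_mul, mul_inv_cancel]
    refine ⟨P₀ * (pull (snd A B).left r)⁻¹, fun V a x => ?_, fun {V} t => by rw [hv, mul_inv_cancel]⟩
    change val (P₀ * (pull (snd A B).left r)⁻¹) a (x ≫ f) = _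
    rw [hv, h0, inv_one, _root_.mul_one]
    exact hP₀ V a x
  haveI : Subsingleton (Spec (CommRingCat.of k)) := inferInstanceAs (Subsingleton (PrimeSpectrum k))
  haveI : IsIntegral B.left := GeometricallyIntegral.isIntegral_of_subsingleton B.hom
  haveI : LocallyOfFinitePresentation A.hom := by
    rw [LocallyOfFinitePresentation.iff_locallyOfFiniteType]; infer_instance
  haveI : Flat A.hom := inferInstance
  haveI : GeometricallyReduced A.hom := inferInstance
  haveI : GeometricallyConnected A.hom := W7See.geometricallyConnected_of_geometricallyIntegral A.hom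
  haveI : ConnectedSpace B.left := inferInstance
  have h1 : ∀ {V : Over (Spec (CommRingCat.of k))} (a : V ⟶ A), val P a (1 : V ⟶ B) = 1 := fun {V} a => by
    rw [show (1 : V ⟶ B) = (1 : V ⟶ A) ≫ f from (MonObj.one_comp f).symm]
    refine (hP V a 1).trans ?_
    rw [_root_.mul_one, pc_one, _root_.mul_one, mul_inv_cancel]
  -- additivity, from connectedness
  let o := AVMukai.org B
  have hd : AbPrim.univDefect P = 1 := by
    refine AbPrim.univDefect_eq_one_of_connected P o ?_
    have hres : AVMukai.resHom B o = 1 := Over.OverMorphism.ext (by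
      rw [Hom.one_def, Over.comp_left]
      have hw : (B.left.fromSpecResidueField o ≫ B.hom) ≫ η[B].left = B.left.fromSpecResidueField o := by
        rw [Category.assoc]
        exact W7Cube.fromSpecResidueField_section η[B].left B.hom (Over.w η[B]) (IsLocalRing.closedPoint k)
      exact hw.symm)
    have h0 : pull (A ◁ (1 : AVMukai.resPt B o ⟶ B)).left P = 1 := by
      rw [show A ◁ (1 : AVMukai.resPt B o ⟶ B) = lift (fst A _) (1 : A ⊗ AVMukai.resPt B o ⟶ B) by
        apply CartesianMonoidalCategory.hom_ext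
        · rw [whiskerLeft_fst, lift_fst]
        · rw [whiskerLeft_snd, lift_snd, MonObj.comp_one]]
      exact h1 _
    have h2 : pull ((A ⊗ A) ◁ AVMukai.resHom B o).left (AbPrim.univDefect P) = 1 := by
      rw [AbPrim.pull_univDefect_whiskerLeft, hres, h0, AbPrim.univDefect_one]
    have hsq := (FMTool.isPullback_whiskerLeft (A := A ⊗ A) (AVMukai.resHom B o))
    have e : (Limits.pullback.snd (A ⊗ A).hom B.hom).fiberι o =
        hsq.isoPullback.inv ≫ ((A ⊗ A) ◁ AVMukai.resHom B o).left := (hsq.isoPullback_inv_fst).symm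
    rw [e, ← pull_pull]
    exact (congrArg (pull hsq.isoPullback.inv) h2).trans (map_one _)
  have hmul : ∀ {V : Over (Spec (CommRingCat.of k))} (a b : V ⟶ A) (t : V ⟶ B),
      val P (a * b) t = val P a t * val P b t := fun {V} a b t => by
    have h := AbPrim.defect_eq_one_of_univ hd a b t
    rw [AbPrim.defect, mul_inv_eq_one] at h
    rw [← h]
    rw [hP0, _root_.mul_one]
  refine ⟨⟨P, hmul, h1, fun {T} t ht => ?_⟩, fun {V} a x => hP V a x⟩
  let T' : Over (Spec (CommRingCat.of k)) := Over.mk (pullback.snd f.left t.left ≫ T.hom)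
  let q : T' ⟶ T := Over.homMk (pullback.snd f.left t.left) rfl
  let x : T' ⟶ A := Over.homMk (pullback.fst f.left t.left) (by
    change pullback.fst f.left t.left ≫ A.hom = pullback.snd f.left t.left ≫ T.hom
    rw [← Over.w f, ← Category.assoc, pullback.condition, Category.assoc, Over.w t])
  have hx : x ≫ f = q ≫ t := Over.OverMorphism.ext pullback.condition
  haveI : Flat q.left := MorphismProperty.pullback_snd (P := @Flat) f.left t.left ‹_›
  haveI : Surjective q.left := MorphismProperty.pullback_snd (P := @Surjective) f.left t.left hf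
  have h2 : AVAmple.mum (PicGrp.cls L hL) x = 1 := by
    have e : pull (A ◁ q).left (pull (A ◁ t).left P) = 1 := by rw [ht, map_one]
    rw [pull_pull, ← Over.comp_left, ← MonoidalCategory.whiskerLeft_comp, ← hx,
      show A ◁ (x ≫ f) = lift (fst A T') ((snd A T' ≫ x) ≫ f) by
        apply CartesianMonoidalCategory.hom_ext <;> simp] at e
    exact (hP _ _ _).symm.trans e
  obtain ⟨y, hy⟩ := (hKL.univ T' x).1 ((AVAmple.isMumfordTriv_iff L hL x).2 ⟨1, by rw [h2, map_one]⟩)
  haveI : Epi q := AVQuot.epi_of_covering q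
  rw [← cancel_epi q, ← hx, ← hy, Category.assoc, show i ≫ f = (1 : K ⟶ B) from hN.w, MonObj.comp_one,
    MonObj.comp_one]

/-- **every abelian variety has a weak dual of the same dimension** -/
theorem exists_pair (A : Over (Spec (CommRingCat.of k))) [GrpObj A] [IsProper A.hom] [GeometricallyIntegral A.hom] :
    ∃ (B : Over (Spec (CommRingCat.of k))) (_ : GrpObj B), IsProper B.hom ∧ GeometricallyIntegral B.hom ∧
      topologicalKrullDim B.left = topologicalKrullDim A.left ∧ Nonempty (Weak A B) := by
  haveI : IsCommMonObj A := isCommMonObj_of_isProper_of_geometricallyIntegral A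
  obtain ⟨H, hH, -⟩ := S8121.result k A
  obtain ⟨N, hNg, i, hi, him, hNf, hKL⟩ := exists_kernel_ample hH
  obtain ⟨B, hBg, hBc, f, hBp, hBi, hf, hff, hfl, hfs, hker⟩ := AVQuot.exists_quotient i
  obtain ⟨W, -⟩ := exists_weak f hfs hker hH.1 hKL
  haveI : IsIntegralHom f.left := inferInstance
  exact ⟨B, hBg, hBp, hBi, ((S9683.result f.left).2 hfs).symm, ⟨W⟩⟩

end Groth.Agent.AVDual
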