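import Groth.Agent.ThetaLib.Represent
import Groth.Agent.GrpField.Kernel
import Groth.Agent.MTBridge.Centralizer
import Groth.Agent.S19771

/-!
The subgroup scheme `K(L)` of an invertible module on an abelian variety, finite for ample `L`.
-/

set_option autoImplicit false
set_option backward.isDefEq.respectTransparency false
set_option backward.isDefEq.respectTransparency.types false
set_option linter.style.haveILetI false
set_option maxHeartbeats 1000000

universe u

open CategoryTheory CategoryTheory.Limits MonoidalCategory CartesianMonoidalCategory MonObj AlgebraicGeometry Opposite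
open Groth.Agent.W7Cube

attribute [local instance] Groth.Agent.W7Cube.law

noncomputable section

namespace Groth.Agent.AVDual

open ThetaLib (pull_mum)

variable {k : Type u} [Field k] {A : Over (Spec (CommRingCat.of k))} [GrpObj A] [IsProper A.hom]
  [GeometricallyIntegral A.hom] {L : A.left.Modules}

theorem exists_locus_qc (hL : PicF.IsInvertible L) :
    ∃ (Z : Over (Spec (CommRingCat.of k))) (z : Z ⟶ A), Mono z.left ∧ QuasiCompact z.left ∧ LocallyOfFiniteType z.left ∧
      ∀ (T : Over (Spec (CommRingCat.of k))) (x : T ⟶ A), ThetaGrp.IsMumfordTriv A L x ↔ ∃ y : T ⟶ Z, y ≫ z = x := by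
  obtain ⟨Λ, hΛ, hcl⟩ := PicGrp.exists_eq_cls (AVAmple.mum (PicGrp.cls L hL) (𝟙 A))
  have hsq : IsPullback (snd A A).left (fst A A).left A.hom A.hom := by
    refine ⟨⟨by rw [Over.w, Over.w]⟩, ⟨PullbackCone.IsLimit.mk _
      (fun s => (lift (Over.homMk s.snd rfl : Over.mk (s.snd ≫ A.hom) ⟶ A)
        (Over.homMk s.fst s.condition : Over.mk (s.snd ≫ A.hom) ⟶ A)).left)
      (fun s => ?_) (fun s => ?_) (fun s m h₁ h₂ => ?_)⟩⟩
    · rw [← Over.comp_left, lift_snd]; rfl
    · rw [← Over.comp_left, lift_fst]; rfl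
    · let m' : Over.mk (s.snd ≫ A.hom) ⟶ A ⊗ A := Over.homMk m (by
        rw [← Over.w (fst A A), ← Category.assoc, h₂]; rfl)
      have : m' = lift (Over.homMk s.snd rfl) (Over.homMk s.fst s.condition) := by
        apply CartesianMonoidalCategory.hom_ext
        · rw [lift_fst]; exact Over.OverMorphism.ext h₂
        · rw [lift_snd]; exact Over.OverMorphism.ext h₁
      exact congrArg CommaMorphism.left this
  let f := (snd A A).left
  haveI : IsProper f := MorphismProperty.of_isPullback (P := @IsProper) hsq.flip ‹_›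
  haveI : GeometricallyIntegral f := MorphismProperty.of_isPullback (P := @GeometricallyIntegral) hsq.flip ‹_›
  haveI : Flat A.hom := inferInstance
  haveI : Flat f := MorphismProperty.of_isPullback (P := @Flat) hsq.flip ‹_›
  haveI : LocallyOfFinitePresentation A.hom := inferInstance
  haveI : LocallyOfFinitePresentation f := MorphismProperty.of_isPullback (P := @LocallyOfFinitePresentation) hsq.flip ‹_›
  haveI : GeometricallyConnected f := W7See.geometricallyConnected_of_geometricallyIntegral f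
  obtain ⟨Z, j, hj, hjf, hjq, huniv, -⟩ := S7817.result f Λ (ResDesc.isFinLocFree_of_isInvertible hΛ)
  refine ⟨Over.mk (j ≫ A.hom), Over.homMk j rfl, inferInstanceAs (Mono j), hjq, (inferInstance : LocallyOfFiniteType j), fun T x => ?_⟩
  have hp : IsPullback (A ◁ x).left (snd A T).left f x.left := (Assoc.isPullback_whiskerLeft x).flip
  have hm : pull (A ◁ x).left (PicGrp.cls Λ hΛ) = AVAmple.mum (PicGrp.cls L hL) x := by
    rw [show PicGrp.cls Λ hΛ = AVAmple.mum (PicGrp.cls L hL) (𝟙 A) from hcl.symm, pull_mum, Category.comp_id]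
  refine Iff.trans ?_ (Iff.trans (huniv T.left x.left).symm ⟨fun ⟨y, hy⟩ => ⟨Over.homMk y (by
    change y ≫ j ≫ A.hom = T.hom
    rw [← Category.assoc, hy, Over.w]), Over.OverMorphism.ext hy⟩, fun ⟨y, hy⟩ => ⟨y.left, congrArg CommaMorphism.left hy⟩⟩)
  rw [AVAmple.isMumfordTriv_iff L hL x, ← hm, pull_cls]
  constructor
  · rintro ⟨d, hd⟩
    obtain ⟨M, hM, rfl⟩ := PicGrp.exists_eq_cls d
    rw [pull_cls, PicGrp.cls_eq_cls_iff] at hd
    obtain ⟨i⟩ := hd
    refine ⟨M, ResDesc.isFinLocFree_of_isInvertible hM, ⟨?_⟩⟩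
    exact (Scheme.Modules.pullbackCongr hp.isoPullback_inv_fst).symm.app Λ ≪≫
      ((Scheme.Modules.pullbackComp hp.isoPullback.inv (A ◁ x).left).app Λ).symm ≪≫
      (Scheme.Modules.pullback hp.isoPullback.inv).mapIso i ≪≫
      (Scheme.Modules.pullbackComp hp.isoPullback.inv (snd A T).left).app M ≪≫
      (Scheme.Modules.pullbackCongr hp.isoPullback_inv_snd).app M
  · rintro ⟨M, -, ⟨i⟩⟩
    let i' : (Scheme.Modules.pullback (A ◁ x).left).obj Λ ≅ (Scheme.Modules.pullback (snd A T).left).obj M :=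
      (Scheme.Modules.pullbackCongr hp.isoPullback_hom_fst).symm.app Λ ≪≫
        ((Scheme.Modules.pullbackComp hp.isoPullback.hom _).app Λ).symm ≪≫
        (Scheme.Modules.pullback hp.isoPullback.hom).mapIso i ≪≫
        (Scheme.Modules.pullbackComp hp.isoPullback.hom _).app M ≪≫
        (Scheme.Modules.pullbackCongr hp.isoPullback_hom_snd).app M
    let σ := (lift (toUnit T ≫ η[A]) (𝟙 T)).left
    have hσ : σ ≫ (snd A T).left = 𝟙 _ := by
      rw [← Over.comp_left, lift_snd]; rfl
    have hM : PicF.IsInvertible M := ParaFLib.isInvertible_of_iso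
      ((Scheme.Modules.pullback σ).mapIso i' ≪≫ (Scheme.Modules.pullbackComp σ _).app M ≪≫
        (Scheme.Modules.pullbackCongr hσ).app M ≪≫ (Scheme.Modules.pullbackId _).app M)
      (PicLoc.isInvertible_pullback σ (PicLoc.isInvertible_pullback _ hΛ))
    refine ⟨PicGrp.cls M hM, ?_⟩
    rw [pull_cls, PicGrp.cls_eq_cls_iff]
    exact ⟨i'⟩


/-- **`K(L)` as a closed subgroup scheme** -/
theorem exists_kernel (hL : PicF.IsInvertible L) :
    ∃ (K : Over (Spec (CommRingCat.of k))) (_ : GrpObj K) (i : K ⟶ A),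
      IsMonHom i ∧ Mono i ∧ ThetaGrp.IsKL A L i := by
  obtain ⟨Z, z, hm, hq, hf, hZ⟩ := exists_locus_qc hL
  haveI : Mono z := (Over.forget _).mono_of_mono_map (inferInstanceAs (Mono z.left))
  have key : ∀ (T : Over (Spec (CommRingCat.of k))) (x : T ⟶ A),
      AVAmple.mum (PicGrp.cls L hL) x = 1 ↔ ∃ y : T ⟶ Z, y ≫ z = x := fun T x => by
    rw [← hZ, AVAmple.isMumfordTriv_iff L hL x]
    exact ⟨fun h => ⟨1, by rw [h, map_one]⟩, fun ⟨d, hd⟩ => AVAmple.mum_eq_one_of_pullback _ _ d hd⟩
  obtain ⟨hg, hhom⟩ := MTBridge.exists_grpObj_of_div z ((key _ _).1 (by rw [← Category.id_comp η[A],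
      toUnit_unique (𝟙 (𝟙_ (Over (Spec (CommRingCat.of k))))) (toUnit _), ← Hom.one_def, AVAmple.mum_one]))
    fun T a b => (key _ _).1 (by
      rw [AVAmple.mum_mul, AVAmple.mum_inv, (key _ _).2 ⟨a, rfl⟩, (key _ _).2 ⟨b, rfl⟩, inv_one, _root_.one_mul])
  haveI : Subsingleton (Spec (CommRingCat.of k)) := inferInstanceAs (Subsingleton (PrimeSpectrum k))
  haveI : Nonempty (Spec (CommRingCat.of k)) := inferInstanceAs (Nonempty (PrimeSpectrum k))
  haveI : LocallyOfFiniteType Z.hom := by rw [← Over.w z]; infer_instance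
  haveI : IsClosedImmersion z.left := GrpField.isClosedImmersion_of_mono (f := z)
  exact ⟨Z, hg, z, hhom, inferInstance, ⟨inferInstance, hZ⟩⟩

/-- **`K(L)` is finite for ample `L`** -/
theorem exists_kernel_ample (hL : CohB1.IsAmple L) :
    ∃ (K : Over (Spec (CommRingCat.of k))) (_ : GrpObj K) (i : K ⟶ A),
      IsMonHom i ∧ Mono i ∧ IsFinite K.hom ∧ ThetaGrp.IsKL A L i := by
  obtain ⟨K, hG, i, hi, hm, hKL⟩ := exists_kernel hL.1
  haveI : Smooth A.hom := by
    haveI : GrpObj (Over.mk A.hom) := inferInstanceAs (GrpObj A)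
    exact smooth_of_grpObj A.hom
  haveI : GeometricallyConnected A.hom := W7See.geometricallyConnected_of_geometricallyIntegral A.hom
  exact ⟨K, hG, i, hi, hm, S19771.result A L (TMul.isRelAmple_iff_isAmple.2 hL) K i hKL, hKL⟩

end Groth.Agent.AVDual
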