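import Groth.Agent.ThetaLib.Represent

/-!
The theta group of an invertible module on an abelian variety is a group scheme.
-/

set_option autoImplicit false
set_option backward.isDefEq.respectTransparency false
set_option backward.isDefEq.respectTransparency.types false
set_option linter.style.haveILetI false
set_option maxHeartbeats 1000000

universe u

open CategoryTheory MonoidalCategory CartesianMonoidalCategory MonObj AlgebraicGeometry Opposite
open ThetaGrp (thetaPts IsOverPt IsBaseChange)

noncomputable section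

namespace Groth.Agent.AVDual

open ThetaLib

variable {k : Type u} [Field k] {A : Over (Spec (CommRingCat.of k))} [GrpObj A] [IsProper A.hom]
  [GeometricallyIntegral A.hom] {L : A.left.Modules}

theorem existsUnique_bc {T T' : Over (Spec (CommRingCat.of k))} (g : T' ⟶ T) (u : thetaPts A L T) :
    ∃! β : thetaPts A L T', IsBaseChange β g u := by
  obtain ⟨x, hx⟩ := exists_pt u
  obtain ⟨β, hβ, -⟩ := exists_bc g hx
  exact ⟨β, hβ, fun β' h => bc_unique h hβ⟩

/-- base change as a map -/
def bcPt {T T' : Over (Spec (CommRingCat.of k))} (g : T' ⟶ T) (u : thetaPts A L T) : thetaPts A L T' :=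
  (existsUnique_bc g u).choose

theorem bcPt_spec {T T' : Over (Spec (CommRingCat.of k))} (g : T' ⟶ T) (u : thetaPts A L T) :
    IsBaseChange (bcPt g u) g u :=
  (existsUnique_bc g u).choose_spec.1

theorem bcPt_eq {T T' : Over (Spec (CommRingCat.of k))} {g : T' ⟶ T} {u : thetaPts A L T} {β : thetaPts A L T'}
    (h : IsBaseChange β g u) : bcPt g u = β :=
  bc_unique (bcPt_spec g u) h

theorem bcLift_id (T : Over (Spec (CommRingCat.of k))) : ThetaGrp.bcLift A L (𝟙 T) = 𝟙 _ := by
  refine cancel_cart (prMap L T) ?_ ?_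
  · change (A ◁ 𝟙 T).left = 𝟙 _
    rw [MonoidalCategory.whiskerLeft_id]
    rfl
  · rw [bcLift_pr, Category.id_comp]

theorem bcPt_id {T : Over (Spec (CommRingCat.of k))} (u : thetaPts A L T) : bcPt (𝟙 T) u = u :=
  bcPt_eq (by
    change hm u ≫ ThetaGrp.bcLift A L (𝟙 T) = ThetaGrp.bcLift A L (𝟙 T) ≫ hm u
    rw [bcLift_id, Category.comp_id, Category.id_comp])

theorem bcPt_comp {T T' T'' : Over (Spec (CommRingCat.of k))} (h : T'' ⟶ T') (g : T' ⟶ T) (u : thetaPts A L T) :
    bcPt (h ≫ g) u = bcPt h (bcPt g u) :=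
  bcPt_eq (bc_trans (bcPt_spec h _) (bcPt_spec g u))

theorem bcPt_mul {T T' : Over (Spec (CommRingCat.of k))} (g : T' ⟶ T) (u v : thetaPts A L T) :
    bcPt g (u * v) = bcPt g u * bcPt g v :=
  bcPt_eq (bc_mul (bcPt_spec g u) (bcPt_spec g v))

variable (A L) in
/-- the functor of points of the theta group -/
def thetaFunctor : (Over (Spec (CommRingCat.of k)))ᵒᵖ ⥤ GrpCat.{u} where
  obj T := GrpCat.of (thetaPts A L T.unop)
  map g := GrpCat.ofHom (MonoidHom.mk' (bcPt g.unop) (bcPt_mul g.unop))
  map_id T := GrpCat.hom_ext (MonoidHom.ext fun u => bcPt_id u)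
  map_comp f g := GrpCat.hom_ext (MonoidHom.ext fun u => bcPt_comp g.unop f.unop u)

/-- **the theta group scheme** -/
theorem exists_thetaGrpSch (hL : PicF.IsInvertible L) :
    ∃ (G : Over (Spec (CommRingCat.of k))) (_ : GrpObj G) (u : thetaPts A L G), ThetaGrp.IsThetaGrpSch A L G u := by
  obtain ⟨G, u, hu⟩ := exists_univPt hL
  let e : ∀ T : Over (Spec (CommRingCat.of k)), (T ⟶ G) ≃ thetaPts A L T := fun T =>
    { toFun := fun g => bcPt g u
      invFun := fun β => (hu T β).choose
      left_inv := fun g => ((hu T (bcPt g u)).choose_spec.2 g (bcPt_spec g u)).symm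
      right_inv := fun β => bcPt_eq (hu T β).choose_spec.1 }
  let α : (thetaFunctor A L ⋙ forget _).RepresentableBy G :=
    { homEquiv := fun {T} => e T
      homEquiv_comp := fun {T T'} f g => bcPt_comp f g u }
  letI hG : GrpObj G := GrpObj.ofRepresentableBy G (thetaFunctor A L) α
  refine ⟨G, hG, u, ⟨hu, fun T g => existsUnique_bc g u, fun T g h β₁ β₂ h₁ h₂ => ?_⟩⟩
  obtain rfl := bcPt_eq h₁
  obtain rfl := bcPt_eq h₂
  have key : bcPt (g * h) u = bcPt g u * bcPt h u := by
    change bcPt (lift g h ≫ (e _).symm (bcPt (fst G G) u * bcPt (snd G G) u)) u = _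
    rw [bcPt_comp, show bcPt ((e _).symm (bcPt (fst G G) u * bcPt (snd G G) u)) u = _ from
      (e _).apply_symm_apply _, bcPt_mul, ← bcPt_comp, ← bcPt_comp, lift_fst, lift_snd]
  rw [← key]
  exact bcPt_spec _ _

end Groth.Agent.AVDual
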