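import Groth.Agent.AVQuot.Basic
import Groth.Agent.AVDual.Kernel
import Groth.Agent.AVDual.ThetaSch
import Groth.Agent.S19955
import Groth.Agent.S19947

/-!
The Poincaré class on `A × A/K(L)`, descended from the Mumford bundle of `L`.
-/

set_option autoImplicit false
set_option backward.isDefEq.respectTransparency false
set_option backward.isDefEq.respectTransparency.types false
set_option linter.style.haveILetI false
set_option linter.unusedSectionVars false
set_option maxHeartbeats 1000000

universe u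

open CategoryTheory CategoryTheory.Limits MonoidalCategory CartesianMonoidalCategory MonObj GrpObj AlgebraicGeometry
open Groth.Agent.W7Cube

attribute [local instance] Groth.Agent.W7Cube.law

noncomputable section

namespace Groth.Agent.AVDual

variable {k : Type u} [Field k]

theorem prod_facts (A B : Over (Spec (CommRingCat.of k))) [GrpObj A] [GrpObj B] [IsProper A.hom] [IsProper B.hom]
    [GeometricallyIntegral A.hom] [GeometricallyIntegral B.hom] :
    IsProper (A ⊗ B).hom ∧ GeometricallyIntegral (A ⊗ B).hom := by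
  haveI : IsProper (snd A B).left :=
    MorphismProperty.of_isPullback (P := @IsProper) (IsPullback.of_hasPullback A.hom B.hom) ‹_›
  haveI : LocallyOfFinitePresentation A.hom := by
    rw [LocallyOfFinitePresentation.iff_locallyOfFiniteType]; infer_instance
  haveI : LocallyOfFinitePresentation B.hom := by
    rw [LocallyOfFinitePresentation.iff_locallyOfFiniteType]; infer_instance
  exact ⟨by rw [← Over.w (snd A B)]; infer_instance,
    geometricallyIntegral_prod (IsPullback.of_hasPullback A.hom B.hom) (A ⊗ B).hom rfl⟩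

variable {A B : Over (Spec (CommRingCat.of k))} [GrpObj A] [IsProper A.hom] [GeometricallyIntegral A.hom]
  [IsCommMonObj A] [GrpObj B] [IsProper B.hom] [GeometricallyIntegral B.hom] [IsCommMonObj B]

theorem one_fst (X Y : Over (Spec (CommRingCat.of k))) [GrpObj X] [GrpObj Y] : η[X ⊗ Y] ≫ fst X Y = η[X] := by
  simp

theorem one_snd (X Y : Over (Spec (CommRingCat.of k))) [GrpObj X] [GrpObj Y] : η[X ⊗ Y] ≫ snd X Y = η[Y] := by
  simp

theorem mul_fst (X Y : Over (Spec (CommRingCat.of k))) [GrpObj X] [GrpObj Y] :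
    μ[X ⊗ Y] ≫ fst X Y = (fst X Y ⊗ₘ fst X Y) ≫ μ[X] := by
  simp

theorem mul_snd (X Y : Over (Spec (CommRingCat.of k))) [GrpObj X] [GrpObj Y] :
    μ[X ⊗ Y] ≫ snd X Y = (snd X Y ⊗ₘ snd X Y) ≫ μ[Y] := by
  simp

theorem isMonHom_whiskerRight (f : A ⟶ B) [IsMonHom f] : IsMonHom (f ▷ A) where
  one_hom := by
    apply CartesianMonoidalCategory.hom_ext
    · rw [Category.assoc, whiskerRight_fst, reassoc_of% (one_fst A A), IsMonHom.one_hom, one_fst]
    · rw [Category.assoc, whiskerRight_snd, one_snd, one_snd]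
  mul_hom := by
    apply CartesianMonoidalCategory.hom_ext
    · rw [Category.assoc, whiskerRight_fst, reassoc_of% (mul_fst A A), IsMonHom.mul_hom, Category.assoc, mul_fst,
        tensorHom_comp_tensorHom_assoc, tensorHom_comp_tensorHom_assoc, whiskerRight_fst]
    · rw [Category.assoc, whiskerRight_snd, mul_snd, Category.assoc, mul_snd, tensorHom_comp_tensorHom_assoc,
        whiskerRight_snd]

theorem isKernel_whiskerRight (f : A ⟶ B) [IsMonHom f] {N : Over (Spec (CommRingCat.of k))} [GrpObj N]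
    (i : N ⟶ A) (hN : AlgGrp.IsKernel i f) : AlgGrp.IsKernel (lift i (1 : N ⟶ A)) (f ▷ A) := by
  refine ⟨⟨?_⟩, ⟨PullbackCone.IsLimit.mk _ (fun s => hN.lift (s.fst ≫ fst A A) s.snd ?_) (fun s => ?_)
    (fun s => toUnit_unique _ _) fun s g h₁ h₂ => hN.hom_ext ?_ (toUnit_unique _ _)⟩⟩
  · apply CartesianMonoidalCategory.hom_ext
    · rw [Category.assoc, whiskerRight_fst, lift_fst_assoc, Category.assoc, one_fst]
      exact hN.w
    · rw [Category.assoc, whiskerRight_snd, lift_snd, Category.assoc, one_snd, Hom.one_def]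
  · have := s.condition =≫ fst B A
    rw [Category.assoc, whiskerRight_fst, Category.assoc] at this
    rw [Category.assoc, this]
    exact congrArg (s.snd ≫ ·) (one_fst B A)
  · apply CartesianMonoidalCategory.hom_ext
    · rw [Category.assoc, lift_fst, hN.lift_fst]
    · have := s.condition =≫ snd B A
      rw [Category.assoc, whiskerRight_snd, Category.assoc] at this
      rw [Category.assoc, lift_snd, MonObj.comp_one, this, Hom.one_def, toUnit_unique (toUnit _) s.snd]
      exact congrArg (s.snd ≫ ·) (one_snd B A).symm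
  · rw [hN.lift_fst, ← h₁, Category.assoc, lift_fst]

theorem isMonHom_lift_one {K : Over (Spec (CommRingCat.of k))} [GrpObj K] (i : K ⟶ A) [IsMonHom i] :
    IsMonHom (lift i (1 : K ⟶ A)) where
  one_hom := by
    apply CartesianMonoidalCategory.hom_ext
    · rw [Category.assoc, lift_fst, IsMonHom.one_hom, one_fst]
    · rw [Category.assoc, lift_snd, MonObj.comp_one, one_snd, Hom.one_def, toUnit_unique (toUnit _) (𝟙 _),
        Category.id_comp]
  mul_hom := by
    apply CartesianMonoidalCategory.hom_ext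
    · rw [Category.assoc, lift_fst, IsMonHom.mul_hom, Category.assoc, mul_fst, tensorHom_comp_tensorHom_assoc,
        lift_fst]
    · rw [Category.assoc, lift_snd, MonObj.comp_one, Category.assoc, mul_snd, tensorHom_comp_tensorHom_assoc,
        lift_snd, show ((1 : K ⟶ A) ⊗ₘ (1 : K ⟶ A)) = lift (1 : K ⊗ K ⟶ A) 1 by
          apply CartesianMonoidalCategory.hom_ext <;> simp [MonObj.comp_one], ← Hom.mul_def, _root_.mul_one]

/-- **descent of the Mumford bundle along `A × A → A × A/K(L)`** -/
theorem exists_descended (f : A ⟶ B) [IsMonHom f] (hf : Surjective f.left)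
    {K : Over (Spec (CommRingCat.of k))} [GrpObj K] {i : K ⟶ A} [IsMonHom i] (hN : AlgGrp.IsKernel i f)
    {L : A.left.Modules} (hL : PicF.IsInvertible L) (hKL : ThetaGrp.IsKL A L i) :
    ∃ P : PicLoc.PicSet (A ⊗ B).left, ∀ (V : Over (Spec (CommRingCat.of k))) (a x : V ⟶ A),
      pc P (lift a (x ≫ f)) = pc (PicGrp.cls L hL) (a * x) * (pc (PicGrp.cls L hL) a * pc (PicGrp.cls L hL) x)⁻¹ := by
  obtain ⟨hAA, hAA'⟩ := prod_facts A A
  obtain ⟨hBA, hBA'⟩ := prod_facts B A
  haveI : IsCommMonObj (A ⊗ A) := isCommMonObj_of_isProper_of_geometricallyIntegral (A ⊗ A)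
  haveI : IsCommMonObj (B ⊗ A) := isCommMonObj_of_isProper_of_geometricallyIntegral (B ⊗ A)
  haveI : IsMonHom (f ▷ A) := isMonHom_whiskerRight f
  haveI : IsMonHom (lift i (1 : K ⟶ A)) := isMonHom_lift_one i
  haveI : Surjective (f ▷ A).left :=
    MorphismProperty.of_isPullback (P := @Surjective) (FMTool.isPullback_fst_whiskerRight f A) hf
  obtain ⟨Λ, hΛi, hlam⟩ := PicGrp.exists_eq_cls (AVAmple.mum (PicGrp.cls L hL) (𝟙 A))
  have hΛ : AgPol.IsLambdaSheaf μ[A].left (fst A A).left (snd A A).left L Λ := by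
    have h := (AVAmple.isLambda_iff L hL (𝟙 A) Λ hΛi).2 hlam
    simpa using h
  obtain ⟨G, hG, u, hu⟩ := exists_thetaGrpSch (A := A ⊗ A) hΛi
  obtain ⟨j, hj, hover⟩ := S19955.result k A L hL Λ hΛi hΛ K i hKL G u hu
  obtain ⟨M, hM, ⟨e⟩⟩ := (S19947.result k (A ⊗ A) (B ⊗ A) (f ▷ A) inferInstance K (lift i 1)
    (isKernel_whiskerRight f i hN) Λ hΛi G u hu).2 ⟨j, hj, hover⟩
  refine ⟨pc (PicGrp.cls M hM) (lift (snd A B) (fst A B)), fun V a x => ?_⟩
  have h1 : pc (PicGrp.cls M hM) (f ▷ A) = AVAmple.mum (PicGrp.cls L hL) (𝟙 A) := by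
    rw [hlam, pc, pull_cls, PicGrp.cls_eq_cls_iff]
    exact ⟨e⟩
  rw [pc, pull_pc, comp_lift, lift_snd, lift_fst,
    show lift (x ≫ f) a = lift x a ≫ (f ▷ A) by simp, ← pull_pc, h1, AVAmple.mum, map_mul, map_inv, map_mul,
    pull_pc, pull_pc, pull_pc, Category.comp_id, MonObj.comp_mul, lift_fst, lift_snd, _root_.mul_comm x a,
    _root_.mul_comm (pc (PicGrp.cls L hL) x)]

end Groth.Agent.AVDual
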