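import Groth.Agent.AVDual.WeakClass
import Groth.Agent.AVEuler.Square
import Groth.Agent.AVDeg.EulerDegenerate
import Groth.Agent.AVDeg.Fibrewise
import Groth.Agent.CohFinite.Linear
import Groth.Agent.MTBridge.Centralizer

/-!
The rank of `K(L)` is the square of the Euler characteristic, over any field.
-/

set_option autoImplicit false
set_option backward.isDefEq.respectTransparency false
set_option backward.isDefEq.respectTransparency.types false
set_option linter.style.haveILetI false
set_option linter.unusedSectionVars false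
set_option maxHeartbeats 2000000

universe u

open CategoryTheory CategoryTheory.Limits MonoidalCategory CartesianMonoidalCategory MonObj GrpObj AlgebraicGeometry
open Groth.Agent.W7Cube (pull pull_pull pull_cls pc pull_pc pc_id pc_one)
open Groth.Agent.AbPrim (val)
open Groth.Agent.AVDeg (rep isInvertible_rep cls_rep)

attribute [local instance] Groth.Agent.W7Cube.law Groth.Agent.AVDeg.overInst

noncomputable section

namespace Groth.Agent.AVDual

variable {k : Type u} [Field k]

/-- the Euler characteristic of a weak class is a sign -/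
theorem χc_weak {A B : Over (Spec (CommRingCat.of k))} [GrpObj A] [IsProper A.hom] [GeometricallyIntegral A.hom]
    [IsCommMonObj A] [GrpObj B] [IsProper B.hom] [GeometricallyIntegral B.hom] [IsCommMonObj B] (W : Weak A B)
    (g : ℕ) (hgA : topologicalKrullDim A.left = g) (hgB : topologicalKrullDim B.left = g) :
    AVEuler.χc W.x = (-1) ^ g := by
  haveI : Smooth A.hom := by
    haveI : GrpObj (Over.mk A.hom) := inferInstanceAs (GrpObj A)
    exact smooth_of_grpObj A.hom
  haveI : Smooth B.hom := by
    haveI : GrpObj (Over.mk B.hom) := inferInstanceAs (GrpObj B)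
    exact smooth_of_grpObj B.hom
  haveI : GeometricallyConnected A.hom := W7See.geometricallyConnected_of_geometricallyIntegral A.hom
  haveI : GeometricallyConnected B.hom := W7See.geometricallyConnected_of_geometricallyIntegral B.hom
  haveI : IsLocallyNoetherian A.left := LocallyOfFiniteType.isLocallyNoetherian A.hom
  haveI : IsLocallyNoetherian B.left := LocallyOfFiniteType.isLocallyNoetherian B.hom
  haveI : IsProper (Limits.pullback.snd A.hom B.hom) := MorphismProperty.pullback_snd _ _ ‹_›
  haveI : LocallyOfFiniteType (Limits.pullback.snd A.hom B.hom) := inferInstance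
  haveI : HasInjectiveResolutions (A ⊗ B).left.Modules := inferInstance
  obtain ⟨P, hP, hQ⟩ := PicGrp.exists_eq_cls W.x
  rw [AVEuler.χc, Curv2.euler]
  obtain ⟨e⟩ := (PicGrp.cls_eq_cls_iff (isInvertible_rep W.x) hP).1 ((cls_rep W.x).trans hQ)
  have h : ∀ i, Module.finrank k (Coh.HH (A ⊗ B).left (rep W.x) i) = if i = g then 1 else 0 := fun i => by
    rw [(CohFinite.hhEquiv k e i).finrank_eq]
    split_ifs with hi
    · subst hi
      exact finrank_top W hP hQ _ hgB
    · haveI : Subsingleton (Coh.HH (A ⊗ B).left P i) := subsingleton_hh W hP hQ i fun s => by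
        rcases lt_or_gt_of_ne hi with h | h
        · exact sections_zero_below W hP hQ g hgB i h ⊤ s
        · exact sections_zero_above W hP hQ g hgA i h ⊤ s
      exact Module.finrank_zero_of_subsingleton
  simp only [h]
  rw [finsum_eq_single _ g (fun i hi => by simp [hi])]
  simp

variable {A : Over (Spec (CommRingCat.of k))} [GrpObj A] [IsProper A.hom] [GeometricallyIntegral A.hom]

/-- **the rank of a finite `K(L)` is `χ(L)²`** -/
theorem rank_kernel {L : A.left.Modules} (hL : PicF.IsInvertible L) (K : Over (Spec (CommRingCat.of k))) (i : K ⟶ A)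
    (hK : ThetaGrp.IsKL A L i) [IsFinite K.hom] (s : ↥(Spec (CommRingCat.of k))) :
    (Scheme.Hom.finrank K.hom s : ℤ) = Curv2.euler k A.left L ^ 2 := by
  haveI : IsCommMonObj A := isCommMonObj_of_isProper_of_geometricallyIntegral A
  haveI : IsClosedImmersion i.left := hK.closed
  haveI : Mono i := (Over.forget _).mono_of_mono_map (inferInstanceAs (Mono i.left))
  have key : ∀ (T : Over (Spec (CommRingCat.of k))) (x : T ⟶ A),
      AVAmple.mum (PicGrp.cls L hL) x = 1 ↔ ∃ y : T ⟶ K, y ≫ i = x := fun T x => by
    rw [← hK.univ, AVAmple.isMumfordTriv_iff L hL x]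
    exact ⟨fun h => ⟨1, by rw [h, map_one]⟩, fun ⟨d, hd⟩ => AVAmple.mum_eq_one_of_pullback _ _ d hd⟩
  obtain ⟨hg, hhom⟩ := MTBridge.exists_grpObj_of_div i ((key _ _).1 (by
      rw [← Category.id_comp η[A], toUnit_unique (𝟙 (𝟙_ (Over (Spec (CommRingCat.of k))))) (toUnit _), ← Hom.one_def,
        AVAmple.mum_one]))
    fun T a b => (key _ _).1 (by
      rw [AVAmple.mum_mul, AVAmple.mum_inv, (key _ _).2 ⟨a, rfl⟩, (key _ _).2 ⟨b, rfl⟩, inv_one, _root_.one_mul])
  obtain ⟨B, hBg, hBc, f, hBp, hBi, hf, hff, hfl, hfs, hker⟩ := AVQuot.exists_quotient i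
  obtain ⟨W, hW⟩ := exists_weak f hfs hker hL hK
  haveI : Subsingleton (Spec (CommRingCat.of k)) := inferInstanceAs (Subsingleton (PrimeSpectrum k))
  haveI : Nonempty A.left := ⟨η[A].left (IsLocalRing.closedPoint k)⟩
  obtain ⟨g, hgA⟩ := AVDeg.exists_dim A
  haveI : IsIntegralHom f.left := inferInstance
  have hgB : topologicalKrullDim B.left = g := ((S9683.result f.left).2 hfs).symm.trans hgA
  haveI := AVEuler.isProper_tensor (A := A) (B := A)
  haveI := AVEuler.geometricallyIntegral_tensor (A := A) (B := A)
  haveI := AVEuler.isCommMonObj_tensor (A := A) (B := A)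
  haveI := AVEuler.isProper_tensor (A := A) (B := B)
  haveI := AVEuler.geometricallyIntegral_tensor (A := A) (B := B)
  haveI := AVEuler.isCommMonObj_tensor (A := A) (B := B)
  haveI : IsMonHom (A ◁ f) :=
    { one_hom := by
        apply CartesianMonoidalCategory.hom_ext
        · rw [Category.assoc, whiskerLeft_fst, one_fst, one_fst]
        · rw [Category.assoc, whiskerLeft_snd, reassoc_of% (one_snd A A), IsMonHom.one_hom, one_snd]
      mul_hom := by
        apply CartesianMonoidalCategory.hom_ext
        · rw [Category.assoc, whiskerLeft_fst, mul_fst, Category.assoc, mul_fst, tensorHom_comp_tensorHom_assoc,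
            whiskerLeft_fst]
        · rw [Category.assoc, whiskerLeft_snd, reassoc_of% (mul_snd A A), IsMonHom.mul_hom, Category.assoc, mul_snd,
            tensorHom_comp_tensorHom_assoc, tensorHom_comp_tensorHom_assoc, whiskerLeft_snd] }
  have hsq : IsPullback (A ◁ f).left (snd A A).left (snd A B).left f.left := FMTool.isPullback_whiskerLeft (A := A) f
  haveI : IsFinite (A ◁ f).left := MorphismProperty.of_isPullback (P := @IsFinite) hsq.flip hff
  haveI : Flat (A ◁ f).left := MorphismProperty.of_isPullback (P := @Flat) hsq.flip hfl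
  -- the degree
  let o : (A ⊗ B).left := η[A ⊗ B].left (IsLocalRing.closedPoint k)
  have hdeg : (A ◁ f).left.finrank o = Scheme.Hom.finrank K.hom s := by
    have hk : IsPullback i.left K.hom f.left η[B].left := hker.map (Over.forget _)
    rw [Scheme.Hom.finrank_of_isPullback _ _ _ _ hsq.flip o, Scheme.Hom.finrank_of_isPullback _ _ _ _ hk s]
    congr 1
    change ((η[A ⊗ B]).left ≫ (snd A B).left) (IsLocalRing.closedPoint k) = _
    rw [← Over.comp_left, one_snd, Subsingleton.elim s (IsLocalRing.closedPoint k)]
    rfl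
  have hpc : pc W.x (A ◁ f) = AVMukai.lam (PicGrp.cls L hL) (fst A A) (snd A A) := by
    rw [show A ◁ f = lift (fst A A) (snd A A ≫ f) by apply CartesianMonoidalCategory.hom_ext <;> simp]
    refine (hW (fst A A) (snd A A)).trans ?_
    rw [AVMukai.lam, _root_.mul_inv_rev, _root_.mul_comm (pc (PicGrp.cls L hL) (snd A A))⁻¹, ← _root_.mul_assoc]
  have h := AVEuler.χc_pc (AVEuler.dim_sq hgA) ((AVEuler.dim_tensor hgA hgB).trans (by rw [two_mul])) (A ◁ f)
    inferInstance o W.x
  rw [hpc, AVEuler.χc_lam hgA, χc_weak W g hgA hgB, hdeg, AVEuler.χc_cls hL] at h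
  have hs : ((-1 : ℤ) ^ g) * (-1) ^ g = 1 := by rw [← mul_pow]; simp
  calc (Scheme.Hom.finrank K.hom s : ℤ) = (Scheme.Hom.finrank K.hom s : ℤ) * (-1) ^ g * (-1) ^ g := by
        rw [_root_.mul_assoc, hs, _root_.mul_one]
    _ = (-1) ^ g * Curv2.euler k A.left L ^ 2 * (-1) ^ g := by rw [h]
    _ = _ := by rw [_root_.mul_comm _ (Curv2.euler k A.left L ^ 2), _root_.mul_assoc, hs, _root_.mul_one]

end Groth.Agent.AVDual
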